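import Cfsg.Agent.Mrg.Omega.KL.StarD.Def


/-!
# THEOREM KL*(q) with diagonal parabolics (helper815, bb #24284)

* `map_inf_of_sylow`, `oddGen_map` : `π(T ∩ O²(H)) = π(T) ∩ O²(π(H))`;
* `nmax_of` : `π(T)` is in two maximal subgroups;
* `le_normalizer_of_diag` : a diagonal `P` which moves the second vector normalises `T ∩ O²(H)`;
* `exists_out_of` : the end over `LB`;
* **`InpD.out`** : `InpD → SysT ∨ SysD`;  **`InpD.false_of`**.
-/

set_option autoImplicit false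

namespace Cfsg.Agent.Omega.KL.StarD

open Subgroup Cfsg Cfsg.Agent.ZN Cfsg.Agent.ClassTwoFusion.Quad
open Cfsg.Agent.Omega.ML.MinFrame hiding comm_of_sq
open Cfsg.Agent.Omega.ML.Final Cfsg.Agent.Omega.NO3S.EMany.Low
open Cfsg.Agent.Omega.KL.Star.Core
open Cfsg.Agent.MinSimple.VModule (o2_isPGroup o2_le le_o2 le_normalizer_o2 o2_le_of_sylow oddGen oddGen_le oddGen_def
  mem_oddGen le_normalizer_oddGen oddGen_le_of_sup)
open Cfsg.Agent.MinSimple.MinParabolic (IsMinPar le_of_forall)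

universe u v

section grp

variable {H : Type u} [Group H] [Finite H] {H' : Type u} [Group H'] [Finite H']

instance oddGen_top_normal : (oddGen (⊤ : Subgroup H)).Normal := by
  rw [← normalizer_eq_top_iff, eq_top_iff]
  exact le_normalizer_oddGen ⊤

omit [Finite H'] in
theorem oddGen_map (π : H →* H') (hπ : Function.Surjective π) {T : Subgroup H} (hT : IsPGroup 2 T)
    (hs : ¬ 2 ∣ T.index) : (oddGen (⊤ : Subgroup H)).map π = oddGen (⊤ : Subgroup H') := by
  apply le_antisymm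
  · rw [map_le_iff_le_comap, oddGen_def, closure_le]
    rintro g ⟨-, hg⟩
    exact mem_oddGen (mem_top _) (hg.of_dvd_nat (orderOf_map_dvd π g))
  · have hn : ((oddGen (⊤ : Subgroup H)).map π).Normal := Normal.map inferInstance π hπ
    rw [oddGen_def (⊤ : Subgroup H'), closure_le]
    rintro g ⟨-, hg⟩
    refine mem_of_odd' (hT.map π) ?_ hg
    rw [← Subgroup.map_sup, oddGen_sup le_top (by rw [relIndex_top_right]; exact hs)]
    obtain ⟨k, rfl⟩ := hπ g
    exact ⟨k, mem_top k, rfl⟩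

/-- `π(T ∩ K) = π(T) ∩ π(K)`, `K` normal, `T` a Sylow 2-subgroup -/
theorem map_inf_of_sylow (π : H →* H') {T K : Subgroup H} [hK : K.Normal]
    (hT : IsPGroup 2 T) (hs : ¬ 2 ∣ T.index) : (T ⊓ K).map π = T.map π ⊓ K.map π := by
  have hle : (T ⊓ K).map π ≤ T.map π ⊓ K.map π := map_inf_le T K π
  refine le_antisymm hle ?_
  rw [← relIndex_eq_one]
  -- a power of 2
  have h1 : IsPGroup 2 (T.map π ⊓ K.map π : Subgroup H') := (hT.map π).to_le inf_le_left
  obtain ⟨n, hn⟩ := IsPGroup.iff_card.1 h1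
  have h2 : ((T ⊓ K).map π).relIndex (T.map π ⊓ K.map π) ∣ 2 ^ n := by
    rw [← hn]
    exact relIndex_dvd_card _ _
  -- odd
  have h3 : ((T ⊓ K).map π).relIndex (T.map π ⊓ K.map π) ∣ ((T ⊓ K).map π).relIndex (K.map π) :=
    Dvd.intro _ (relIndex_mul_relIndex _ _ _ hle inf_le_right)
  have h4 : ((T ⊓ K).map π).relIndex (K.map π) ∣ T.relIndex K := by
    have h5 := index_map_dvd (T.subgroupOf K) (π.subgroupMap_surjective K)
    refine (index_dvd_of_le ?_).trans h5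
    rintro _ ⟨k, hk, rfl⟩
    exact ⟨k, ⟨hk, k.2⟩, rfl⟩
  have h6 : ¬ 2 ∣ T.relIndex K := by
    rw [← Lib.SylowNormalInf.relIndex_sup_of_normal]
    exact fun h3 => hs (h3.trans (relIndex_dvd_index_of_le le_sup_left))
  obtain ⟨j, -, hj⟩ := (Nat.dvd_prime_pow Nat.prime_two).1 h2
  rw [hj] at h3 ⊢
  have h7 : j = 0 := by
    by_contra hj0
    exact h6 ((dvd_pow_self 2 hj0).trans (h3.trans h4))
  rw [h7, pow_zero]

end grp

section act

variable {H : Type u} [Group H] {M : Type v} [Group M] [MulDistribMulAction H M] {T : Subgroup H} {Y Lam : Subgroup M}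

variable (H) in
/-- the stabiliser of a subgroup -/
def st (W : Subgroup M) : Subgroup H where
  carrier := {g | ∀ w, g • w ∈ W ↔ w ∈ W}
  one_mem' := fun w => by rw [one_smul]
  mul_mem' := fun {a b} ha hb w => by rw [mul_smul, ha, hb]
  inv_mem' := fun {a} ha w => by rw [← ha, smul_inv_smul]

theorem mem_st {W : Subgroup M} {g : H} : g ∈ st H W ↔ ∀ w, g • w ∈ W ↔ w ∈ W := Iff.rfl

theorem le_st {P : Subgroup H} {W : Subgroup M} (h : ∀ p ∈ P, ∀ w ∈ W, p • w ∈ W) : P ≤ st H W := by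
  intro p hp w
  refine ⟨fun hw => ?_, h p hp w⟩
  have h1 := h _ (inv_mem hp) _ hw
  rwa [inv_smul_smul] at h1

/-- **a diagonal `P` which does not centralise `Y` normalises `T ∩ O²(H)`** -/
theorem le_normalizer_of_diag [Finite H] (sq : ∀ m : M, m * m = 1) (hT : IsPGroup 2 T) (syl : ¬ 2 ∣ T.index)
    {P : Subgroup H} (hP : IsMinPar T P) (TL : ∀ t ∈ T, ∀ w ∈ Lam, t • w ∈ Lam)
    (hPY : ∀ p ∈ P, ∀ w ∈ Y, p • w ∈ Y)
    (uni : ∀ t ∈ T, (∀ w ∈ Lam, t • w = w) → ∀ w ∈ Y, (t • w) * w⁻¹ ∈ Lam)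
    (hL : ∀ g : H, Odd (orderOf g) → ∀ w ∈ Lam, g • w = w)
    (hne : ¬ ∀ g ∈ P, Odd (orderOf g) → ∀ w ∈ Y, g • w = w) :
    P ≤ normalizer ((T ⊓ oddGen (⊤ : Subgroup H) : Subgroup H) : Set H) := by
  have hsP : ¬ 2 ∣ T.relIndex P := fun h2 => syl (h2.trans (relIndex_dvd_index_of_le hP.le))
  have h3 : oddGen P ⊔ T = P := oddGen_sup hP.le hsP
  -- `P` stabilises `Lam`
  have hodd : oddGen (⊤ : Subgroup H) ≤ fxr H Lam := by
    rw [oddGen_def, closure_le]
    rintro g ⟨-, hg⟩ w hw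
    exact hL g hg w hw
  have hst : P ≤ st H Lam := by
    rw [← h3]
    refine sup_le ?_ (le_st TL)
    refine (MinSimple.VModule.oddGen_mono le_top).trans (hodd.trans (le_st fun g hg w hw => ?_))
    rw [hg w hw]
    exact hw
  -- the kernel on `Y / Lam`
  let NP : Subgroup H :=
    { carrier := {g | g ∈ P ∧ ∀ w ∈ Y, (g • w) * w⁻¹ ∈ Lam}
      one_mem' := ⟨one_mem _, fun w _ => by rw [one_smul, mul_inv_cancel]; exact one_mem _⟩
      mul_mem' := fun {k l} hk hl => ⟨mul_mem hk.1 hl.1, fun m hm => by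
        have e : (k * l) • m * m⁻¹ = (k • l • m) * (l • m)⁻¹ * ((l • m) * m⁻¹) := by
          rw [mul_smul]; group
        rw [e]
        exact mul_mem (hk.2 _ (hPY l hl.1 m hm)) (hl.2 m hm)⟩
      inv_mem' := fun {k} hk => ⟨inv_mem hk.1, fun m hm => by
        have h1 := hk.2 (k⁻¹ • m) (hPY _ (inv_mem hk.1) m hm)
        rw [smul_inv_smul] at h1
        have h2 := inv_mem h1
        rwa [mul_inv_rev, inv_inv] at h2⟩ }
  have hNP : ∀ g, g ∈ NP ↔ g ∈ P ∧ ∀ w ∈ Y, (g • w) * w⁻¹ ∈ Lam := fun _ => Iff.rfl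
  have hNPP : NP ≤ P := fun g hg => hg.1
  have hNPn : P ≤ normalizer (NP : Set H) := by
    have h0 : ∀ p ∈ P, ∀ g ∈ NP, p * g * p⁻¹ ∈ NP := by
      intro p hp g hg
      refine ⟨P.mul_mem (P.mul_mem hp hg.1) (P.inv_mem hp), fun w hw => ?_⟩
      have h4 := hg.2 _ (hPY p⁻¹ (inv_mem hp) w hw)
      have h5 := (mem_st.1 (hst hp) _).2 h4
      rwa [smul_mul', smul_inv', smul_inv_smul, smul_smul, smul_smul] at h5
    intro p hp
    rw [mem_normalizer_iff]
    refine fun g => ⟨h0 p hp g, fun hg => ?_⟩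
    have h1 := h0 p⁻¹ (inv_mem hp) _ hg
    have e : p⁻¹ * (p * g * p⁻¹) * p⁻¹⁻¹ = g := by group
    rwa [e] at h1
  have hnot : NP ⊔ T ≠ P := by
    intro h4
    apply hne
    have h5 : oddGen P ≤ NP := oddGen_le_of_sup hNPn h4.ge hP.le hNPP hT
    intro g hg hgo w hw
    exact fix_of_odd sq hgo (hL g hgo _ ((h5 (mem_oddGen hg hgo)).2 w hw))
  have ho2 : T ⊓ NP ≤ o2 P := (hP.sup_eq_or_inf_le hT hsP hNPP hNPn).resolve_left hnot
  have hT0 : T ⊓ oddGen (⊤ : Subgroup H) ≤ o2 P := by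
    refine le_trans ?_ ho2
    rintro t ⟨ht, hto⟩
    exact ⟨ht, hP.le ht, uni t ht fun w hw => hodd hto w hw⟩
  have ho2T : o2 P ≤ T := o2_le_of_sylow hT hsP
  have h0 : ∀ p ∈ P, ∀ g ∈ T ⊓ oddGen (⊤ : Subgroup H), p * g * p⁻¹ ∈ T ⊓ oddGen (⊤ : Subgroup H) := by
    intro p hp g hg
    exact ⟨ho2T ((mem_normalizer_iff.1 (le_normalizer_o2 P hp) g).1 (hT0 hg)),
      (oddGen_top_normal (H := H)).conj_mem g hg.2 p⟩
  intro p hp
  rw [mem_normalizer_iff]
  refine fun g => ⟨h0 p hp g, fun hg => ?_⟩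
  have h1 := h0 p⁻¹ (inv_mem hp) _ hg
  have e : p⁻¹ * (p * g * p⁻¹) * p⁻¹⁻¹ = g := by group
  rwa [e] at h1

end act

section out

variable {H : Type u} [Group H] [Finite H] {M : Type v} [Group M] [Finite M] [MulDistribMulAction H M]
  {T A : Subgroup H} {H' : Type u} [Group H'] [Finite H'] {N : Type v} [Group N] [Finite N] [MulDistribMulAction H' N]
  {π : H →* H'} {f : ↥(cmm M A) →* N} {A' : Subgroup H'}

omit [Finite H'] [Finite N] in
/-- the stabilisers over `T` -/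
theorem hback (h : LB H M T A) (o : Out H M T A H' N π f A') {x1 : M} (hx1 : x1 ∈ cmm M A)
    (tx1 : ∀ t ∈ T, t • x1 = x1) (R : Subgroup H) (hTR : T ≤ R) (hR : ∀ g ∈ R, π g • f ⟨x1, hx1⟩ = f ⟨x1, hx1⟩) :
    ∀ g ∈ R, g • x1 = x1 := by
  refine h.fix_of_mod tx1 hTR (I := cv M (Km A : Set H)) (fun w hw tw g _ => h.fix_of_cvKm tw hw g) fun g hg => ?_
  have h1 := hR g hg
  rw [← o.eqv g ⟨x1, hx1⟩, ← mul_inv_eq_one, ← map_inv, ← map_mul, o.ker] at h1
  exact h1

omit [Finite H'] [Finite N] in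
/-- `π(T)` is in two maximal subgroups, if no `T`-minimal `P` which moves `x1` is `H` -/
theorem nmax_of (h : LB H M T A) (o : Out H M T A H' N π f A') {x1 : M} (hx1 : x1 ∈ cmm M A)
    (tx1 : ∀ t ∈ T, t • x1 = x1) (mx1 : ¬ ∀ g : H, g • x1 = x1)
    (hP : ∀ P : Subgroup H, IsMinPar T P → (∀ p ∈ P, p • x1 = x1) ∨ P ≠ ⊤) :
    ¬ ∃ L : Subgroup H', L ≠ ⊤ ∧ ∀ R : Subgroup H', T.map π ≤ R → R ≠ ⊤ → R ≤ L := by
  rintro ⟨L, hL, hLm⟩
  have hn : ¬ (⊤ : Subgroup H') ≤ normalizer ((T.map π : Subgroup H') : Set H') := fun hn =>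
    o.lb.nb (o.lb.BT.trans (le_o2 le_top o.lb.two hn))
  obtain ⟨P, hPm, hPt⟩ := KL.GenTool.exists_minPar_map π o.πs
    (P' := ⊤) (T := T) ⟨le_top, hn, L, lt_top_iff_ne_top.2 hL, fun K hK hlt => hLm K hK hlt.ne⟩
  rcases hP P hPm with h1 | h1
  · refine mx1 fun g => hback h o hx1 tx1 ⊤ le_top (fun g _ => ?_) g (mem_top g)
    have h2 : π g ∈ P.map π := hPt ▸ mem_top (π g)
    obtain ⟨p, hp, hpg⟩ := h2
    rw [← hpg, ← o.eqv p ⟨x1, hx1⟩]
    exact congrArg f (Subtype.ext (h1 p hp))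
  · have h2 := h.low P hPm.le h1
    have h3 := (map_mono (f := π) h2).trans (KL.GenTool.o2_map_le π P)
    rw [hPt] at h3
    exact o.lb.nb (o.AB.trans h3)

/-- **The end over `LB`** -/
theorem exists_out_of (h : LB H M T A) (hM : MLK.{u, v}) {x : M} (tx : ∀ t ∈ T, t • x = x)
    {Y Lam : Subgroup M} (NY : ∀ g ∈ normalizer (T : Set H), ∀ w ∈ Y, g • w ∈ Y)
    (NL : ∀ g ∈ normalizer (T : Set H), ∀ w ∈ Lam, g • w ∈ Lam) (LY : Lam ≤ Y)
    (cY : ∀ w ∈ Y, (∀ t ∈ T, t • w = w) → ∀ g : H, g • w = w)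
    (par : ∀ P : Subgroup H, IsMinPar T P → (∀ p ∈ P, p • x = x) ∨
      (∀ g ∈ P, Odd (orderOf g) → ∀ w ∈ Y, g • w = w) ∨
      ((∀ p ∈ P, ∀ w ∈ Y, p • w ∈ Y) ∧ (∀ g ∈ P, Odd (orderOf g) → ∀ w ∈ Lam, g • w = w) ∧
        ∀ w ∈ Y, (∀ g ∈ P, Odd (orderOf g) → g • w = w) → w ∈ Lam))
    (uni : ∀ t ∈ T, (∀ w ∈ Lam, t • w = w) → ∀ w ∈ Y, (t • w) * w⁻¹ ∈ Lam)
    (ctr : ∀ y ∈ Y, y ∉ Lam → (∀ t ∈ T, (t • y) * y⁻¹ ∈ Lam) → ∀ g : H, g • (x * y) = x * y → g • x = x)
    (hYn : ¬ ∀ g : H, ∀ w ∈ Y, g • w ∈ Y)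
    (mv : ∃ P : Subgroup H, IsMinPar T P ∧ ∃ p ∈ P, p • x ≠ x) :
    (∃ (H' : Type u) (_ : Group H') (_ : Finite H') (N : Type v) (_ : Group N) (_ : Finite N)
      (_ : MulDistribMulAction H' N) (T' A' : Subgroup H') (x' y' : N), ML.Ex.Two.SysT H' N T' A' x' y') ∨
    ∃ (H' : Type u) (_ : Group H') (_ : Finite H') (N : Type v) (_ : Group N) (_ : Finite N)
      (_ : MulDistribMulAction H' N) (T' A' : Subgroup H') (x' : N), SysD H' N T' A' x' := by
  have hx : ¬ ∀ g : H, g • x = x := by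
    obtain ⟨P, -, p, -, hp⟩ := mv
    exact fun hc => hp (hc p)
  have hcomm := comm_of_sq h.sq
  have TY : ∀ t ∈ T, ∀ w ∈ Y, t • w ∈ Y := fun t ht => NY t (le_normalizer ht)
  have TL : ∀ t ∈ T, ∀ w ∈ Lam, t • w ∈ Lam := fun t ht => NL t (le_normalizer ht)
  have hPodd : ∀ P : Subgroup H, IsMinPar T P → oddGen P ⊔ T = P := fun P hP => oddGen_sup hP.le
    fun h2 => h.syl (h2.trans (relIndex_dvd_index_of_le hP.le))
  have hHodd : oddGen (⊤ : Subgroup H) ⊔ T = ⊤ := oddGen_sup le_top (by rw [relIndex_top_right]; exact h.syl)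
  -- a mover normalises `Y`
  have parY : ∀ P : Subgroup H, IsMinPar T P → (∀ p ∈ P, p • x = x) ∨ ∀ p ∈ P, ∀ w ∈ Y, p • w ∈ Y := by
    intro P hP
    rcases par P hP with h1 | h1 | h1
    · exact Or.inl h1
    · right
      have h2 : P ≤ st H Y := by
        rw [← hPodd P hP]
        refine sup_le ?_ (le_st TY)
        refine le_trans (b := fxr H Y) ?_ (le_st fun g hg w hw => by rw [hg w hw]; exact hw)
        rw [oddGen_def, closure_le]
        rintro g ⟨hgP, hgo⟩ w hw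
        exact h1 g hgP hgo w hw
      exact fun p hp w hw => (mem_st.1 (h2 hp) w).2 hw
    · exact Or.inr h1.1
  have hY : ¬ ∀ g : H, Odd (orderOf g) → ∀ w ∈ Y, g • w = w := by
    intro hc
    apply hYn
    have h2 : (⊤ : Subgroup H) ≤ st H Y := by
      rw [← hHodd]
      refine sup_le ?_ (le_st TY)
      refine le_trans (b := fxr H Y) ?_ (le_st fun g hg w hw => by rw [hg w hw]; exact hw)
      rw [oddGen_def, closure_le]
      rintro g ⟨-, hgo⟩ w hw
      exact hc g hgo w hw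
    exact fun g w hw => (mem_st.1 (h2 (mem_top g)) w).2 hw
  by_cases hL : ∀ g : H, Odd (orderOf g) → ∀ w ∈ Lam, g • w = w
  swap
  · -- the lines of `Y` are moved
    left
    obtain ⟨H', i1, i2, N, i3, i4, i5, T', A', x', y', hs, ho⟩ := StarQ.exists_of_core h hM tx (Y := Lam) NL
      (fun w hw => cY w (LY hw)) hL (fun P hP => by
        rcases par P hP with h1 | h1 | h1
        · exact Or.inl h1
        · exact Or.inr fun g hg hgo w hw => h1 g hg hgo w (LY hw)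
        · exact Or.inr h1.2.1) mv
    exact ⟨H', i1, i2, N, i3, i4, i5, T', A', x', y', hs.sysT ho⟩
  -- the section
  obtain ⟨x0, h0, hx1⟩ := exists_fix_coset (T := T) (R := ⊤) h.sq (by rw [relIndex_top_right]; exact h.syl) tx
    (I := cmm M A) (fun g _ => h.orb_eq tx g)
  have hs : ∀ g : H, g • (x0 * x⁻¹) = x0 * x⁻¹ ↔ g • x = x := fun g => by
    rw [smul_mul', smul_inv', h0 g (mem_top g), mul_right_inj, inv_inj]
  set x1 : M := x0 * x⁻¹ with hx1def
  have tx1 : ∀ t ∈ T, t • x1 = x1 := fun t ht => (hs t).2 (tx t ht)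
  have mx1 : ¬ ∀ g : H, g • x1 = x1 := fun hc => hx fun g => (hs g).1 (hc g)
  obtain ⟨H', i1, i2, N, i3, i4, i5, π, f, A', o⟩ := h.exists_out hM tx1 mx1 hx1
  have hfx : f ⟨x1, hx1⟩ ≠ 1 := by
    rw [Ne, o.ker]
    exact fun hc => mx1 fun g => h.fix_of_cvKm tx1 hc g
  have htx : ∀ t ∈ T.map π, t • f ⟨x1, hx1⟩ = f ⟨x1, hx1⟩ := by
    rintro _ ⟨t, ht, rfl⟩
    rw [← o.eqv t ⟨x1, hx1⟩]
    exact congrArg f (Subtype.ext (tx1 t ht))
  -- the second vector
  obtain ⟨u, ⟨hu1, hu2⟩, hu3⟩ := exists_vec h TY hY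
  have hYW : ∀ t ∈ T, ∀ w ∈ Y ⊔ wz M A h.sq, t • w ∈ Y ⊔ wz M A h.sq := by
    intro t ht w hw
    have hn : (wz M A h.sq).Normal := normal_of_sq h.sq _
    obtain ⟨y, hy, w0, hw0, rfl⟩ := mem_sup_of_normal_right.1 hw
    rw [smul_mul']
    exact mul_mem (le_sup_left (a := Y) (TY t ht y hy)) (le_sup_right (a := Y) (smul_mem_wz t hw0))
  obtain ⟨u', ⟨⟨w, hwU⟩, hwE, rfl⟩, hu'1, tu'⟩ := exists_fix o.lb.sq o.lb.two
    (W := ((Y ⊔ wz M A h.sq).subgroupOf (cmm M A)).map f) (by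
      rintro _ ⟨t, ht, rfl⟩ _ ⟨w, hw, rfl⟩
      rw [← o.eqv t w]
      exact ⟨_, hYW t ht _ hw, rfl⟩) (by
      intro h1
      have h2 : f ⟨u, hu2⟩ ∈ ((Y ⊔ wz M A h.sq).subgroupOf (cmm M A)).map f := ⟨⟨u, hu2⟩, hu1, rfl⟩
      rw [h1, mem_bot, o.ker] at h2
      exact hu3 h2)
  have hwz : (wz M A h.sq).Normal := normal_of_sq h.sq _
  obtain ⟨y, hy, w0, hw0, hyw⟩ := mem_sup_of_normal_right.1 (show w ∈ Y ⊔ wz M A h.sq from hwE)
  have hKodd : ∀ g : H, Odd (orderOf g) → g ∈ Km A := fun g hg => mem_of_odd h.two h.gen hg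
  -- an element of odd order which centralises `Y` fixes the second vector
  have su1 : ∀ g : H, Odd (orderOf g) → g • y = y → π g • f ⟨w, hwU⟩ = f ⟨w, hwU⟩ := by
    intro g hg hgy
    rw [← o.eqv g ⟨w, hwU⟩, ← mul_inv_eq_one, ← map_inv, ← map_mul, o.ker]
    change (g • w) * w⁻¹ ∈ cv M (Km A : Set H)
    have e : g • w * w⁻¹ = (g • w0) * w0⁻¹ := by
      rw [← hyw, smul_mul', hgy, mul_inv_rev, hcomm y]
      calc g • w0 * y * (w0⁻¹ * y⁻¹) = g • w0 * (y * w0⁻¹) * y⁻¹ := by group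
        _ = g • w0 * (w0⁻¹ * y) * y⁻¹ := by rw [hcomm y w0⁻¹]
        _ = _ := by group
    rw [e]
    exact hw0 g (hKodd g hg)
  have su : ∀ g : H, Odd (orderOf g) → (∀ w ∈ Y, g • w = w) → π g • f ⟨w, hwU⟩ = f ⟨w, hwU⟩ :=
    fun g hg hc => su1 g hg (hc y hy)
  have parY1 : ∀ P : Subgroup H, IsMinPar T P → (∀ p ∈ P, p • x1 = x1) ∨ ∀ p ∈ P, ∀ w ∈ Y, p • w ∈ Y :=
    fun P hP => (parY P hP).imp (fun h1 p hp => (hs p).2 (h1 p hp)) id
  have hnmax := nmax_of h o hx1 tx1 mx1 fun P hP => (parY1 P hP).imp id fun h1 h2 =>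
    hYn fun g w hw => h1 g (h2 ▸ mem_top g) w hw
  have hodd : ∀ K : Subgroup H', K.Normal → Odd (Nat.card K) → K = ⊥ := fun K hK hKo =>
    odd_bot h hM o hx1 tx1 mx1 hnmax NY cY parY1 hu'1 su hK hKo
  -- the elements of odd order fix `wz`
  have hcw : cv M (Km A : Set H) ≤ wz M A h.sq := by
    intro m hm k hk
    rw [hm k hk, mul_inv_cancel]
    exact one_mem _
  have hwzo : ∀ m ∈ wz M A h.sq, ∀ g : H, Odd (orderOf g) → g • m = m := fun m hm g hg =>
    fix_of_odd h.sq hg (hm g (hKodd g hg) g (hKodd g hg))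
  have hstw : ∀ P : Subgroup H, IsMinPar T P → (∀ g ∈ P, Odd (orderOf g) → ∀ w ∈ Y, g • w = w) →
      ∀ p ∈ P, π p • f ⟨w, hwU⟩ = f ⟨w, hwU⟩ := by
    intro P hP h1
    have h2 : P ≤ (MulAction.stabilizer H' (f ⟨w, hwU⟩)).comap π := by
      rw [← hPodd P hP]
      refine sup_le ?_ fun t ht => tu' _ ⟨t, ht, rfl⟩
      rw [oddGen_def, closure_le]
      rintro g ⟨hgP, hgo⟩
      exact su g hgo fun w hw => h1 g hgP hgo w hw
    exact fun p hp => h2 hp
  -- the `c`-trick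
  have hne : f ⟨x1, hx1⟩ ≠ f ⟨w, hwU⟩ := by
    intro he
    obtain ⟨P, hP, p, hp, hpx⟩ := mv
    rcases par P hP with h1 | h1 | ⟨hPY, -, hPc⟩
    · exact hpx (h1 p hp)
    · have h2 := hstw P hP h1
      rw [← he] at h2
      exact hpx ((hs p).1 (hback h o hx1 tx1 P hP.le h2 p hp))
    · have hc : x1 * w⁻¹ ∈ cv M (Km A : Set H) := by
        have h2 : f (⟨x1, hx1⟩ * ⟨w, hwU⟩⁻¹) = 1 := by rw [map_mul, map_inv, he, mul_inv_cancel]
        exact (o.ker _).1 h2
      have hxyw : x * y ∈ wz M A h.sq := by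
        have hx0w : x0 ∈ wz M A h.sq := fun k _ => by rw [h0 k (mem_top k), mul_inv_cancel]; exact one_mem _
        have e : x * y = x0 * (x1 * w⁻¹)⁻¹ * w0⁻¹ := by
          rw [hx1def, ← hyw]
          calc x * y = y * x := hcomm _ _
            _ = y * (x * w0) * w0⁻¹ := by group
            _ = y * (w0 * x) * w0⁻¹ := by rw [hcomm x w0]
            _ = (y * w0 * x) * x0 * x0⁻¹ * w0⁻¹ := by group
            _ = x0 * (y * w0 * x) * x0⁻¹ * w0⁻¹ := by rw [hcomm (y * w0 * x) x0]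
            _ = _ := by group
        rw [e]
        exact mul_mem (mul_mem hx0w (inv_mem (hcw hc))) (inv_mem hw0)
      have hall : ∀ g : H, Odd (orderOf g) → g • x = x := by
        have hyL : y ∉ Lam → ∀ g : H, Odd (orderOf g) → g • x = x := by
          intro hyL g hg
          refine ctr y hy hyL (fun t ht => ?_) g (hwzo _ hxyw g hg)
          have h2 : (t • w) * w⁻¹ ∈ cv M (Km A : Set H) := by
            have h3 := tu' _ ⟨t, ht, rfl⟩
            rw [← o.eqv t ⟨w, hwU⟩, ← mul_inv_eq_one, ← map_inv, ← map_mul, o.ker] at h3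
            exact h3
          have e : (t • y) * y⁻¹ = ((t • w) * w⁻¹) * ((t • w0) * w0⁻¹)⁻¹ := by
            rw [← hyw, smul_mul']
            calc (t • y) * y⁻¹ = t • y * (y⁻¹ * t • w0) * (t • w0)⁻¹ := by group
              _ = t • y * (t • w0 * y⁻¹) * (t • w0)⁻¹ := by rw [hcomm y⁻¹ (t • w0)]
              _ = t • y * t • w0 * (y⁻¹ * w0⁻¹) * w0 * (t • w0)⁻¹ := by group
              _ = t • y * t • w0 * (w0⁻¹ * y⁻¹) * w0 * (t • w0)⁻¹ := by rw [hcomm y⁻¹ w0⁻¹]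
              _ = _ := by group
          have h5 : (t • y) * y⁻¹ ∈ wz M A h.sq := by
            rw [e]
            exact mul_mem (hcw h2) (inv_mem (mul_mem (smul_mem_wz t hw0) (inv_mem hw0)))
          exact hPc _ (Y.mul_mem (TY t ht y hy) (Y.inv_mem hy)) fun g _ hgo => hwzo _ h5 g hgo
        by_cases hyL' : y ∈ Lam
        · intro g hg
          have h2 := hwzo _ hxyw g hg
          rwa [smul_mul', hL g hg y hyL', mul_left_inj] at h2
        · exact hyL hyL'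
      apply hx
      have h2 : (⊤ : Subgroup H) ≤ MulAction.stabilizer H x := by
        rw [← hHodd]
        refine sup_le ?_ fun t ht => tx t ht
        rw [oddGen_def, closure_le]
        rintro g ⟨-, hgo⟩
        exact hall g hgo
      exact fun g => h2 (mem_top g)
  have hB : SysB H' N (T.map π) A' (f ⟨x1, hx1⟩) :=
    { x1 := hfx
      tx := htx
      sq := o.lb.sq
      faith := o.faith
      irr := o.irr
      two := o.lb.two
      syl := o.lb.syl
      AT := o.lb.BT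
      el := o.lb.el
      four := four_le o.lb.sq o.faith o.irr o.lb htx tu' hfx hu'1 hne
      exact := o.lb.exact
      atom := o.lb.atom
      low := o.lb.low
      nmax := hnmax
      odd := hodd
      KH := o.lb.KH }
  by_cases hm : ∃ P : Subgroup H, IsMinPar T P ∧ (∃ p ∈ P, p • x ≠ x) ∧ ∀ p ∈ P, π p • f ⟨w, hwU⟩ = f ⟨w, hwU⟩
  · left
    obtain ⟨P, hP, ⟨p, hp, hpx⟩, hPw⟩ := hm
    refine ⟨H', i1, i2, N, i3, i4, i5, _, A', _, _, hB.sysT ⟨hfx, hu'1, htx, tu', P.map π, map_mono hP.le, ?_, ?_⟩⟩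
    · rintro _ ⟨r, hr, rfl⟩
      exact hPw r hr
    · by_contra hc
      push Not at hc
      exact hpx ((hs p).1 (hback h o hx1 tx1 P hP.le (fun g hg => hc _ ⟨g, hg, rfl⟩) p hp))
  · right
    refine ⟨H', i1, i2, N, i3, i4, i5, T.map π, A', _, hB, ?_⟩
    intro P' hP' hmv'
    obtain ⟨P, hPm, rfl⟩ := KL.GenTool.exists_minPar_map π o.πs hP'
    have hmP : ∃ p ∈ P, p • x ≠ x := by
      by_contra hc
      push Not at hc
      obtain ⟨_, ⟨p, hp, rfl⟩, hpx⟩ := hmv'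
      apply hpx
      rw [← o.eqv p ⟨x1, hx1⟩]
      exact congrArg f (Subtype.ext ((hs p).2 (hc p hp)))
    have hnY : ¬ ∀ g ∈ P, Odd (orderOf g) → ∀ w ∈ Y, g • w = w := fun h1 => hm ⟨P, hPm, hmP, hstw P hPm h1⟩
    have hdiag := ((par P hPm).resolve_left fun h1 => by
      obtain ⟨p, hp, hpx⟩ := hmP
      exact hpx (h1 p hp)).resolve_left hnY
    have hn := le_normalizer_of_diag h.sq h.two h.syl hPm TL hdiag.1 uni hL hnY
    have he : (T.map π) ⊓ oddGen (⊤ : Subgroup H') = (T ⊓ oddGen (⊤ : Subgroup H)).map π := by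
      rw [map_inf_of_sylow π h.two h.syl, oddGen_map π o.πs h.two h.syl]
    rw [he]
    exact (map_mono hn).trans (le_normalizer_map _)

end out

namespace InpD

variable {H : Type u} [Group H] [Finite H] {M : Type v} [Group M] [Finite M] [MulDistribMulAction H M]
  {T A : Subgroup H} {Z Y Lam : Subgroup M}

omit [Finite M] in
theorem AT (i : InpD T A Z Y Lam) : A ≤ T :=
  i.AZ.trans (o2_le_of_sylow i.two fun h2 => i.syl (h2.trans (relIndex_dvd_index_of_le fun t ht z hz => i.tZ z hz t ht)))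

/-- **THEOREM KL*(q) with diagonal parabolics** : a section of `(H, M)` is in the situation `SysT` or `SysD`. -/
theorem out (i : InpD T A Z Y Lam) (hM : MLK.{u, v}) :
    (∃ (H' : Type u) (_ : Group H') (_ : Finite H') (N : Type v) (_ : Group N) (_ : Finite N)
      (_ : MulDistribMulAction H' N) (T' A' : Subgroup H') (x' y' : N), ML.Ex.Two.SysT H' N T' A' x' y') ∨
    ∃ (H' : Type u) (_ : Group H') (_ : Finite H') (N : Type v) (_ : Group N) (_ : Finite N)
      (_ : MulDistribMulAction H' N) (T' A' : Subgroup H') (x' : N), SysD H' N T' A' x' := by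
  -- `L` minimal
  obtain ⟨L, ⟨hTL, hAL⟩, hmin⟩ : ∃ L : Subgroup H, (T ≤ L ∧ ¬ A ≤ o2 L) ∧
      ∀ R : Subgroup H, (T ≤ R ∧ ¬ A ≤ o2 R) → R ≤ L → R = L := by
    have hfin : {L : Subgroup H | T ≤ L ∧ ¬ A ≤ o2 L}.Finite := Set.toFinite _
    obtain ⟨B, hB⟩ := hfin.exists_minimal ⟨⊤, le_top, i.nT⟩
    exact ⟨B, hB.1, fun C hC hCB => le_antisymm hCB (hB.2 hC hCB)⟩
  have hAT := i.AT
  have hAL' : A ≤ L := hAT.trans hTL
  have e1 : ∀ {C : Subgroup H}, C ≤ L → (C.subgroupOf L).map L.subtype = C := fun {C} hC => by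
    rw [subgroupOf_map_subtype, inf_eq_left.2 hC]
  have hcv : ∀ C : Subgroup L, cv M (C : Set L) = cv M ((C.map L.subtype : Subgroup H) : Set H) := by
    intro C
    ext m
    constructor
    · rintro hm _ ⟨c, hc, rfl⟩
      exact hm c hc
    · exact fun hm c hc => hm _ ⟨c, hc, rfl⟩
  have hcard : ∀ C : Subgroup L, Nat.card (C.map L.subtype) = Nat.card C := fun C =>
    card_map_of_injective L.subtype_injective
  have hlb : LB L M (T.subgroupOf L) (A.subgroupOf L) := by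
    refine ⟨i.sq, i.two.comap_subtype, fun h2 => ?_, fun x hx => hAT hx, fun b hb => Subtype.ext (i.el b hb), ?_, ?_, ?_, ?_,
      sec_KG.sub H i.KH L⟩
    · exact i.syl (h2.trans (relIndex_dvd_index_of_le hTL))
    · rw [hcv, e1 hAL', i.exact, ← hcard, e1 hAL']
    · intro C hC hC1 hCF
      rw [hcv, ← hcard]
      refine i.atom _ ?_ ?_ ?_
      · rintro _ ⟨c, hc, rfl⟩
        exact hC hc
      · intro h1
        exact hC1 ((Subgroup.map_eq_bot_iff_of_injective _ L.subtype_injective).1 h1)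
      · intro h1
        apply hCF
        rw [← h1]
        exact (comap_map_eq_self_of_injective L.subtype_injective C).symm
    · intro R hTR hR
      have h1 : R.map L.subtype ≠ L := by
        intro h2
        apply hR
        rw [eq_top_iff]
        intro r _
        have h3 : (r : H) ∈ R.map L.subtype := by
          rw [h2]
          exact r.2
        obtain ⟨s, hs, hsr⟩ := h3
        rwa [← (Subtype.ext hsr : s = r)]
      have h2 : T ≤ R.map L.subtype := fun t ht => ⟨⟨t, hTL ht⟩, hTR ht, rfl⟩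
      have h3 : A ≤ o2 (R.map L.subtype) := by
        by_contra hc
        exact h1 (hmin _ ⟨h2, hc⟩ (map_subtype_le R))
      exact fun x hx => KL.GenTool.o2_subgroupOf_le R (h3 hx)
    · intro hc
      apply hAL
      have h1 := (map_mono (f := L.subtype) hc).trans (KL.GenTool.o2_map_le L.subtype ⊤)
      rw [e1 hAL', ← MonoidHom.range_eq_map, L.range_subtype] at h1
      exact h1
  -- normalizers of `T`
  have hNN : ∀ g : L, g ∈ normalizer ((T.subgroupOf L : Subgroup L) : Set L) → (g : H) ∈ normalizer (T : Set H) := by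
    intro g hg
    rw [mem_normalizer_iff] at hg ⊢
    intro t
    constructor
    · intro ht
      exact (hg ⟨t, hTL ht⟩).1 ht
    · intro ht
      have h1 : t ∈ L := by
        have h2 := L.mul_mem (L.mul_mem (L.inv_mem g.2) (hTL ht)) g.2
        have e : (g : H)⁻¹ * (g * t * (g : H)⁻¹) * g = t := by group
        rwa [e] at h2
      exact (hg ⟨t, h1⟩).2 ht
  -- a `T`-minimal subgroup of `L` which moves `Z`
  obtain ⟨P, hPm, hPZ⟩ : ∃ P : Subgroup L, IsMinPar (T.subgroupOf L) P ∧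
      ¬ ∀ z ∈ Z, ∀ p ∈ P, p • z = z := by
    by_contra hc
    push Not at hc
    apply hAL
    -- `C_L(Z)` is normal in `L`
    let F : Subgroup H := fxr H Z ⊓ L
    have hTF : T ≤ F := le_inf (fun t ht z hz => i.tZ z hz t ht) hTL
    have h1 : (⊤ : Subgroup L) ≤ (normalizer (F : Set H)).subgroupOf L := by
      refine le_of_forall (S := T.subgroupOf L) le_top (fun g hg => ?_) fun P hP _ p hp => ?_
      · rw [mem_subgroupOf]
        have hg1 := hNN g hg.2
        have hconj : ∀ k : H, k ∈ normalizer (T : Set H) → k ∈ L → ∀ w ∈ F, k * w * k⁻¹ ∈ F := by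
          intro k hk hkL w hw
          refine ⟨fun z hz => ?_, L.mul_mem (L.mul_mem hkL hw.2) (L.inv_mem hkL)⟩
          have h2 := hw.1 _ (i.NZ k⁻¹ (inv_mem hk) z hz)
          rw [mul_smul, mul_smul, h2, smul_inv_smul]
        rw [mem_normalizer_iff]
        intro w
        refine ⟨hconj g hg1 g.2 w, fun hw => ?_⟩
        have h2 := hconj (g : H)⁻¹ (inv_mem hg1) (L.inv_mem g.2) _ hw
        have e : (g : H)⁻¹ * (g * w * (g : H)⁻¹) * (g : H)⁻¹⁻¹ = w := by group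
        rwa [e] at h2
      · rw [mem_subgroupOf]
        exact le_normalizer (show (p : H) ∈ F from ⟨fun z hz => hc P hP z hz p hp, p.2⟩)
    have h2 : L ≤ normalizer (F : Set H) := fun g hg => h1 (mem_top (⟨g, hg⟩ : L))
    exact (le_inf i.AZ (hAT.trans hTF)).trans
      ((InpG.o2_le_o2_of_le inf_le_left).trans (o2_le_o2 inf_le_right h2))
  push Not at hPZ
  obtain ⟨x, hxZ, p, hp, hpx⟩ := hPZ
  have htx : ∀ t ∈ T.subgroupOf L, t • x = x := fun t ht => i.tZ x hxZ _ ht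
  -- `L` does not normalise `Y`
  have hYn : ¬ ∀ g : L, ∀ w ∈ Y, g • w ∈ Y := by
    intro hc
    apply hAL
    let F : Subgroup H := fxr H Y ⊓ L
    have h2 : L ≤ normalizer (F : Set H) := by
      have hconj : ∀ k ∈ L, ∀ w ∈ F, k * w * k⁻¹ ∈ F := by
        intro k hkL w hw
        refine ⟨fun z hz => ?_, L.mul_mem (L.mul_mem hkL hw.2) (L.inv_mem hkL)⟩
        have h2 := hw.1 _ (hc ⟨k, hkL⟩⁻¹ z hz)
        change (k * w * k⁻¹) • z = z
        rw [mul_smul, mul_smul]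
        change w • k⁻¹ • z = k⁻¹ • z at h2
        rw [h2, smul_inv_smul]
      intro g hg
      rw [mem_normalizer_iff]
      intro w
      refine ⟨hconj g hg w, fun hw => ?_⟩
      have h2 := hconj g⁻¹ (L.inv_mem hg) _ hw
      have e : g⁻¹ * (g * w * g⁻¹) * g⁻¹⁻¹ = w := by group
      rwa [e] at h2
    exact (le_inf i.AY (le_inf (i.AY.trans (o2_le _)) hAL')).trans
      ((InpG.o2_le_o2_of_le inf_le_left).trans (o2_le_o2 inf_le_right h2))
  refine exists_out_of hlb hM htx (Y := Y) (Lam := Lam) (fun g hg w hw => i.NY g (hNN g hg) w hw)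
    (fun g hg w hw => i.NL g (hNN g hg) w hw) i.LY
    (fun w hw tw g => i.cY w hw (fun t ht => tw ⟨t, hTL ht⟩ ht) g) (fun R hR => ?_) (fun t ht => i.uni t ht)
    (fun y hy hyL hty g hg => i.ctr x hxZ y hy hyL (fun t ht => hty ⟨t, hTL ht⟩ ht) g hg) hYn ⟨P, hPm, p, hp, hpx⟩
  rcases i.par _ (KL.GenTool.minPar_map_subtype hTL hR) with h1 | h2 | ⟨h3, h4, h5⟩
  · exact Or.inl fun q hq => h1 x hxZ _ ⟨q, hq, rfl⟩
  · refine Or.inr (Or.inl fun g hg hgo w hw => h2 _ ⟨g, hg, rfl⟩ ?_ w hw)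
    rwa [Subgroup.coe_subtype, orderOf_coe]
  · refine Or.inr (Or.inr ⟨fun q hq w hw => h3 _ ⟨q, hq, rfl⟩ w hw, fun g hg hgo w hw => h4 _ ⟨g, hg, rfl⟩ ?_ w hw,
      fun w hw hc => h5 w hw ?_⟩)
    · rwa [Subgroup.coe_subtype, orderOf_coe]
    · rintro _ ⟨g, hg, rfl⟩ hgo
      refine hc g hg ?_
      rwa [Subgroup.coe_subtype, orderOf_coe] at hgo

/-- **THEOREM KL*(q) with diagonal parabolics**, with EXT and (B) -/
theorem false_of (hM : MLK.{u, v}) (hE : ML.Ex.Two.Ext.{u, v})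
    (hB : ∀ (H' : Type u) [Group H'] [Finite H'] (N : Type v) [Group N] [Finite N] [MulDistribMulAction H' N]
      (T' A' : Subgroup H') (x' : N), SysD H' N T' A' x' → False) (i : InpD T A Z Y Lam) : False := by
  rcases i.out hM with ⟨H', i1, i2, N, i3, i4, i5, T', A', x', y', h⟩ | ⟨H', i1, i2, N, i3, i4, i5, T', A', x', h⟩
  · exact hE H' N T' A' x' y' h
  · exact hB H' N T' A' x' h

end InpD

end Cfsg.Agent.Omega.KL.StarD
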